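import Cfsg.Agent.H630.Ore.Co1.LThree
import Cfsg.Agent.KFacts.Co1D4.Main
import Cfsg.Agent.LThreeMB.CoOneFin
import Cfsg.Agent.H777.PGrp

/-!
# Row `Co1` of S2443: elements commuting with an involution of class 2A (helper630)

* `IsA u` : `u` is conjugate to the sign change on an octad; `InA g` : `g` commutes with some `u` of class 2A;
* `inv_cases` : the three classes of involutions;
* `exists_central` : a 2-group of order at least `2 ^ 13` in `C(w)` (`w` of class 2B) has a central involution of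
  class 2A;
* `inA_zero` : `g = t s` with `|s| = 3`, `fr s = 1`, `t` a 2-element commuting with `s`: `InA g`.
-/

set_option autoImplicit false

open Subgroup

namespace Cfsg.Agent.H630.Ore.Co1

open Cfsg Cfsg.Agent.SporadicA Cfsg.Agent.SporadicA.Co0Mono Cfsg.Agent.SporadicA.GolayBase
open Cfsg.Agent.KFacts.Co1D4 Cfsg.Agent.CoOneType.SignFacts
open Cfsg.Agent.SporadicA.Co1Simple (allOne)
open Cfsg.Agent.CoOneType.ClosingFacts (mk mk_mul mk_inv exists_mk mk_eq_one mk_eq isConj_octad)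
open Cfsg.Agent.CoOneType.InvMain (b0 conj_sign_of_sq_one conj_b0_of_sq_neg)
open Cfsg.Agent.LThreeMB (fr fr_conj)
open Cfsg.Spor (Co1)

/-- class 2A -/
def IsA (u : Co1) : Prop := ∃ c : golayCode, wt c = 8 ∧ IsConj (mk (signCo0 c)) u

/-- class 2C -/
def IsD (u : Co1) : Prop := ∃ d : golayCode, wt d = 12 ∧ IsConj (mk (signCo0 d)) u

/-- commuting with an involution of class 2A -/
def InA (g : Co1) : Prop := ∃ u, IsA u ∧ g * u = u * g

theorem IsA.conj {u : Co1} (h : IsA u) (k : Co1) : IsA (k * u * k⁻¹) := by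
  obtain ⟨c, hc, hu⟩ := h
  exact ⟨c, hc, hu.trans (isConj_iff.2 ⟨k, rfl⟩)⟩

theorem IsD.conj {u : Co1} (h : IsD u) (k : Co1) : IsD (k * u * k⁻¹) := by
  obtain ⟨c, hc, hu⟩ := h
  exact ⟨c, hc, hu.trans (isConj_iff.2 ⟨k, rfl⟩)⟩

theorem IsA.of_conj {u k : Co1} (h : IsA (k * u * k⁻¹)) : IsA u := by
  have := h.conj k⁻¹
  rwa [show k⁻¹ * (k * u * k⁻¹) * k⁻¹⁻¹ = u by group] at this

theorem InA.of_conj {g k : Co1} (h : InA (k * g * k⁻¹)) : InA g := by
  obtain ⟨u, hu, hg⟩ := h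
  refine ⟨k⁻¹ * u * k⁻¹⁻¹, hu.conj k⁻¹, ?_⟩
  calc g * (k⁻¹ * u * k⁻¹⁻¹) = k⁻¹ * (k * g * k⁻¹ * u) * k := by group
    _ = k⁻¹ * (u * (k * g * k⁻¹)) * k := by rw [hg]
    _ = k⁻¹ * u * k⁻¹⁻¹ * g := by group

/-- **the classes of involutions** -/
theorem inv_cases {u : Co1} (hu : u * u = 1) (hu1 : u ≠ 1) : IsA u ∨ IsD u ∨ IsConj TwoB.w u := by
  rcases Base.cases u hu hu1 with ⟨g, c, hc, h⟩ | ⟨g, c, hc, h⟩ | ⟨g, h⟩
  · exact Or.inl ⟨c, hc, isConj_iff.2 ⟨g, h⟩⟩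
  · exact Or.inr (Or.inl ⟨c, hc, isConj_iff.2 ⟨g, h⟩⟩)
  · right; right
    obtain ⟨k, hk⟩ := conj_b0_of_sq_neg _ TwoB.k_sq
    have h1 : IsConj TwoB.w (mk b0) := isConj_iff.2 ⟨mk k, by
      have := congrArg mk hk
      rwa [mk_mul, mk_mul, mk_inv] at this⟩
    exact h1.trans (isConj_iff.2 ⟨g, h⟩)

theorem isA_of_trace {t : Co0} (ht : t * t = 1) (htr : Co2Type.Mono.tr8 t = -64) : IsA (mk t) := by
  obtain ⟨g, c, hg⟩ := conj_sign_of_sq_one t ht
  have h1 : Co2Type.Mono.tr8 (signCo0 c) = -64 := by rw [← hg, Co2Type.Mono.tr8_conj, htr]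
  rw [Base.tr8_sign] at h1
  have h2 : wt c = 16 := by omega
  have h3 := wt_add_allOne c
  refine ⟨c + allOne, by omega, ?_⟩
  rw [CoOneType.ClosingFacts.mk_add_allOne, ← hg]
  refine isConj_iff.2 ⟨(mk g)⁻¹, ?_⟩
  rw [mk_mul, mk_mul, mk_inv]
  group

theorem isA_z : IsA TwoB.z := isA_of_trace TwoB.t_sq Letters.tr8_zw


/-! ### involutions of `L` -/

open Cfsg.Agent.StdG24 Cfsg.Agent.StdG24.Mod6 Cfsg.Agent.StdG24.Inv6 Cfsg.Agent.StdG24.Al6

/-- an involution of `L` is of class 2A or commutes with few elements of `L` -/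
theorem invL {u : Co1} (hL : u ∈ GTwo.L) (hu : u * u = 1) (hu1 : u ≠ 1) :
    IsA u ∨ ∀ R : Subgroup Co1, R ≤ GTwo.L → (∀ r ∈ R, r * u = u * r) → Nat.card R ∣ Nat.card Cv := by
  have htt : GTwo.φ.symm ⟨u, hL⟩ * GTwo.φ.symm ⟨u, hL⟩ = 1 := by
    rw [← map_mul]
    have : (⟨u, hL⟩ : GTwo.L) * ⟨u, hL⟩ = 1 := Subtype.ext hu
    rw [this, map_one]
  have ht1 : GTwo.φ.symm ⟨u, hL⟩ ≠ 1 := by
    intro h
    apply hu1
    have h2 : (⟨u, hL⟩ : GTwo.L) = 1 := by
      rw [← GTwo.φ.apply_symm_apply ⟨u, hL⟩, h, map_one]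
    exact congrArg Subtype.val h2
  rcases SixCen.conj_cases htt ht1 with ⟨g, hg⟩ | ⟨g, hg⟩
  · left
    have h1 := congrArg (fun x => ((GTwo.φ x : GTwo.L) : Co1)) hg
    simp only [map_mul, map_inv, MulEquiv.apply_symm_apply, Subgroup.coe_mul, Subgroup.coe_inv] at h1
    rw [← TwoB.z_eq] at h1
    exact IsA.of_conj (k := ((GTwo.φ g : GTwo.L) : Co1)) (by rw [h1]; exact isA_z)
  · right
    intro R hR hRu
    have hm : ∀ r : R, (r : Co1) ∈ GTwo.L := fun r => hR r.2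
    let f : R →* GL6 := ((MulAut.conj (g : GL6)).toMonoidHom.comp (Subgroup.subtype Mod6.L)).comp
      (GTwo.φ.symm.toMonoidHom.comp (Subgroup.inclusion hR))
    have hf : Function.Injective f := by
      refine (MulAut.conj (g : GL6)).injective.comp (Subtype.val_injective.comp (GTwo.φ.symm.injective.comp ?_))
      exact Subgroup.inclusion_injective hR
    have hfr : f.range ≤ Cv := by
      rintro _ ⟨r, rfl⟩
      have e1 : f r = ((g * GTwo.φ.symm ⟨r, hm r⟩ * g⁻¹ : Mod6.L) : GL6) := rfl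
      rw [e1]
      refine mem_Cv.2 ⟨SetLike.coe_mem _, ?_⟩
      have h2 : GTwo.φ.symm ⟨r, hm r⟩ * GTwo.φ.symm ⟨u, hL⟩ = GTwo.φ.symm ⟨u, hL⟩ * GTwo.φ.symm ⟨r, hm r⟩ := by
        rw [← map_mul, ← map_mul]
        exact congrArg _ (Subtype.ext (hRu r r.2))
      have h3 : (g * GTwo.φ.symm ⟨r, hm r⟩ * g⁻¹) * lv = lv * (g * GTwo.φ.symm ⟨r, hm r⟩ * g⁻¹) := by
        rw [← hg]
        calc (g * GTwo.φ.symm ⟨r, hm r⟩ * g⁻¹) * (g * GTwo.φ.symm ⟨u, hL⟩ * g⁻¹)
            = g * (GTwo.φ.symm ⟨r, hm r⟩ * GTwo.φ.symm ⟨u, hL⟩) * g⁻¹ := by group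
          _ = g * (GTwo.φ.symm ⟨u, hL⟩ * GTwo.φ.symm ⟨r, hm r⟩) * g⁻¹ := by rw [h2]
          _ = _ := by group
      exact congrArg Subtype.val h3
    rw [Nat.card_congr (MonoidHom.ofInjective hf).toEquiv]
    exact Subgroup.card_dvd_of_le hfr

theorem sixty_dvd : 60 ∣ Nat.card Cv := by
  rw [← card_Al]
  exact Subgroup.card_dvd_of_le Cv6.Al_le_Cv

theorem not_pow_ten : ¬ 2 ^ 10 ∣ Nat.card Cv := by
  intro h
  have h1 := sixty_dvd
  have h2 := SixCen.card_Cv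
  have h3 : 15 * 2 ^ 10 ∣ Nat.card Cv :=
    Nat.Coprime.mul_dvd_of_dvd_of_dvd (by norm_num) ((by norm_num : 15 ∣ 60).trans h1) h
  have h4 : Nat.card Cv ≠ 0 := by
    intro h0
    have := Nat.finite_of_card_ne_zero (α := Al) (by rw [card_Al]; norm_num)
    have h5 : Finite Cv := by
      have hL := SixCen.finite_L
      exact Finite.of_injective (fun x : Cv => (⟨x, (mem_Cv.1 x.2).1⟩ : Mod6.L)) fun a b hab =>
        Subtype.ext (congrArg (fun x : Mod6.L => (x : GL6)) hab)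
    exact Nat.card_pos.ne' h0
  have h5 := Nat.le_of_dvd (Nat.pos_of_ne_zero h4) h3
  omega

/-! ### 2-groups in `C(w)` -/

theorem relIndex_mul_card {X : Type*} [Group X] {H K : Subgroup X} (h : H ≤ K) :
    H.relIndex K * Nat.card H = Nat.card K := by
  have h1 := Subgroup.relIndex_mul_relIndex ⊥ H K bot_le h
  rw [Subgroup.relIndex_bot_left, Subgroup.relIndex_bot_left] at h1
  rw [mul_comm]
  exact h1

/-- a 2-group `T` in `C(w)` and the central involutions of `T` in `L` -/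
theorem exists_inL {T : Subgroup Co1} (hT : IsPGroup 2 T) (hw : ∀ t ∈ T, t * TwoB.w = TwoB.w * t)
    (hc : 16 ≤ Nat.card T) : ∃ u ∈ T, u ∈ GTwo.L ∧ u * u = 1 ∧ u ≠ 1 ∧ (∀ t ∈ T, t * u = u * t) ∧
      Nat.card T ≤ 8 * Nat.card (T ⊓ GTwo.L : Subgroup Co1) := by
  have := LThree.fin_co1
  have h2 : Fact (Nat.Prime 2) := ⟨Nat.prime_two⟩
  have S := Main.setup
  have hLC : GTwo.L ≤ centralizer ({TwoB.w} : Set Co1) := fun l hl => mem_centralizer_singleton_iff.2 (S.Lw l hl)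
  have hTC : T ≤ centralizer ({TwoB.w} : Set Co1) := fun l hl => mem_centralizer_singleton_iff.2 (hw l hl)
  have h8 : GTwo.L.relIndex (centralizer ({TwoB.w} : Set Co1)) ≤ 8 := by
    have h1 := relIndex_mul_card hLC
    have h3 := S.card
    rw [← h1] at h3
    exact Nat.le_of_mul_le_mul_right h3 Nat.card_pos
  have h9 : GTwo.L.relIndex T ≤ 8 := le_trans (Subgroup.relIndex_le_of_le_right hTC
    (by rw [Subgroup.relIndex]; exact Subgroup.index_ne_zero_of_finite)) h8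
  have hcard : Nat.card T ≤ 8 * Nat.card (T ⊓ GTwo.L : Subgroup Co1) := by
    have h1 := relIndex_mul_card (inf_le_left : T ⊓ GTwo.L ≤ T)
    rw [Subgroup.inf_relIndex_left] at h1
    rw [← h1]
    exact Nat.mul_le_mul_right _ h9
  have hK : (T ⊓ GTwo.L : Subgroup Co1).subgroupOf T ≠ ⊥ := by
    intro h0
    have h1 : Nat.card ((T ⊓ GTwo.L : Subgroup Co1).subgroupOf T) = 1 := by rw [h0, Subgroup.card_bot]
    rw [Nat.card_congr (Subgroup.subgroupOfEquivOfLe (inf_le_left : T ⊓ GTwo.L ≤ T)).toEquiv] at h1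
    omega
  have hn : ((T ⊓ GTwo.L : Subgroup Co1).subgroupOf T).Normal := by
    refine ⟨fun n hn g => ?_⟩
    rw [Subgroup.mem_subgroupOf] at hn ⊢
    refine ⟨(g * n * g⁻¹).2, ?_⟩
    exact S.conj_L (hw g g.2) hn.2
  obtain ⟨b, hb, hb1, hbc⟩ := Cfsg.Agent.H777.PGrp.inf_center_ne_bot hT hK hn
  -- an involution in the powers of `b`
  obtain ⟨k, hk⟩ := hT b
  have hb1' : (b : Co1) ≠ 1 := fun h => hb1 (Subtype.ext h)
  have ho : orderOf (b : Co1) ∣ 2 ^ k := orderOf_dvd_of_pow_eq_one (by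
    have := congrArg Subtype.val hk
    simpa using this)
  obtain ⟨m, -, hm⟩ := (Nat.dvd_prime_pow Nat.prime_two).1 ho
  have hm0 : m ≠ 0 := by
    rintro rfl
    rw [pow_zero, orderOf_eq_one_iff] at hm
    exact hb1' hm
  obtain ⟨n, rfl⟩ := Nat.exists_eq_succ_of_ne_zero hm0
  have hbL : (b : Co1) ∈ GTwo.L := (Subgroup.mem_subgroupOf.1 hb).2
  refine ⟨(b : Co1) ^ 2 ^ n, T.pow_mem b.2 _, GTwo.L.pow_mem hbL _, ?_, ?_, ?_, hcard⟩
  · rw [← pow_add, ← two_mul, ← pow_succ', ← Nat.succ_eq_add_one, ← hm, pow_orderOf_eq_one]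
  · intro h
    have h3 := orderOf_dvd_of_pow_eq_one h
    rw [hm] at h3
    have h4 := Nat.le_of_dvd (pow_pos (by norm_num) _) h3
    exact absurd h4 (not_le.2 (Nat.pow_lt_pow_right (by norm_num) (Nat.lt_succ_self n)))
  · intro t ht
    have h3 := congrArg Subtype.val (hbc ⟨t, ht⟩)
    have h4 : Commute t (b : Co1) := h3
    exact (h4.pow_right _).eq

/-- **a large 2-group in `C(w)` has a central involution of class 2A** -/
theorem exists_central {T : Subgroup Co1} (hT : IsPGroup 2 T) (hw : ∀ t ∈ T, t * TwoB.w = TwoB.w * t)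
    (hc : 2 ^ 13 ≤ Nat.card T) : ∃ u ∈ T, IsA u ∧ ∀ t ∈ T, t * u = u * t := by
  have := LThree.fin_co1
  have h2 : Fact (Nat.Prime 2) := ⟨Nat.prime_two⟩
  obtain ⟨u, huT, huL, huu, hu1, huc, hcard⟩ := exists_inL hT hw (le_trans (by norm_num) hc)
  refine ⟨u, huT, ?_, huc⟩
  rcases invL huL huu hu1 with h | h
  · exact h
  · exfalso
    have h3 := h (T ⊓ GTwo.L) inf_le_right fun r hr => huc r hr.1
    obtain ⟨n, hn⟩ := IsPGroup.iff_card.1 (hT.to_le (inf_le_left : T ⊓ GTwo.L ≤ T))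
    rw [hn] at h3 hcard
    have hn10 : 10 ≤ n := by
      by_contra hlt
      push Not at hlt
      have h4 : 2 ^ n ≤ 2 ^ 9 := Nat.pow_le_pow_right (by norm_num) (by omega)
      have : (2 : ℕ) ^ 13 ≤ 8 * 2 ^ 9 := le_trans (le_trans hc hcard) (Nat.mul_le_mul_left 8 h4)
      norm_num at this
    exact not_pow_ten ((pow_dvd_pow 2 hn10).trans h3)

/-! ### elements of order three with `fr s = 1` -/

/-- an element commuting with an involution of class 2C has nonzero fixed vectors in `Λ / 2Λ` -/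
theorem fr_ne_one {s u : Co1} (hu : IsD u) (hsu : s * u = u * s) : fr s ≠ 1 := by
  obtain ⟨d, hd, hc⟩ := hu
  obtain ⟨k, rfl⟩ := isConj_iff.1 hc
  obtain ⟨g, hg⟩ := exists_mk (k⁻¹ * s * k⁻¹⁻¹)
  have h1 : mk g * mk (signCo0 d) = mk (signCo0 d) * mk g := by
    rw [hg]
    calc k⁻¹ * s * k⁻¹⁻¹ * mk (signCo0 d) = k⁻¹ * (s * (k * mk (signCo0 d) * k⁻¹)) * k := by group
      _ = k⁻¹ * (k * mk (signCo0 d) * k⁻¹ * s) * k := by rw [hsu]
      _ = mk (signCo0 d) * (k⁻¹ * s * k⁻¹⁻¹) := by group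
  have hx := Order.e8_cl_of_mem (DodBal.mem_N hd h1)
  intro hf
  rw [← fr_conj k⁻¹ s, ← hg] at hf
  have h2 : Nat.card {v : MonsterU.Lam2.L2 // g • v = v} = 1 := hf
  have h3 := (Nat.card_eq_one_iff_unique.1 h2).1
  have h4 : (⟨Order.x0, hx⟩ : {v : MonsterU.Lam2.L2 // g • v = v}) = ⟨0, smul_zero g⟩ := Subsingleton.elim _ _
  exact Order.x0_ne (congrArg Subtype.val h4)

/-- **`g = t s`, `s` of class 3A: `g` commutes with an involution of class 2A** -/
theorem inA_zero {s t : Co1} (hs : orderOf s = 3) (hf : fr s = 1) (hts : t * s = s * t) {n : ℕ}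
    (ht : t ^ 2 ^ n = 1) : InA (t * s) := by
  have := LThree.fin_co1
  have h2 : Fact (Nat.Prime 2) := ⟨Nat.prime_two⟩
  have htC : t ∈ centralizer ({s} : Set Co1) := mem_centralizer_singleton_iff.2 hts
  have hcard : 2 ^ 13 ∣ Nat.card (centralizer ({s} : Set Co1)) := by
    obtain ⟨e⟩ := LThreeMB.CoOneFin.coOne.suz s hs hf
    have h1 : Nat.card (LThreeMB.XX s) = 448345497600 := (Nat.card_congr e.toEquiv).trans Cfsg.Agent.S1694.result.2
    have h3 : Nat.card (LThreeMB.XX s) ∣ Nat.card (centralizer ({s} : Set Co1)) := Subgroup.card_quotient_dvd_card _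
    rw [h1] at h3
    exact (by norm_num : 2 ^ 13 ∣ 448345497600).trans h3
  have hz : IsPGroup 2 (Subgroup.zpowers (⟨t, htC⟩ : centralizer ({s} : Set Co1))) := by
    refine IsPGroup.of_card (n := (orderOf (⟨t, htC⟩ : centralizer ({s} : Set Co1))).factorization 2) ?_
    rw [Nat.card_zpowers]
    have h5 : orderOf (⟨t, htC⟩ : centralizer ({s} : Set Co1)) ∣ 2 ^ n := orderOf_dvd_of_pow_eq_one (Subtype.ext ht)
    obtain ⟨m, -, hm⟩ := (Nat.dvd_prime_pow Nat.prime_two).1 h5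
    rw [hm, Nat.Prime.factorization_pow Nat.prime_two, Finsupp.single_eq_same]
  obtain ⟨Q, hQ⟩ := hz.exists_le_sylow
  have hQc : 2 ^ 13 ∣ Nat.card Q := Q.pow_dvd_card_of_pow_dvd_card hcard
  set T : Subgroup Co1 := (Q : Subgroup (centralizer ({s} : Set Co1))).map (centralizer ({s} : Set Co1)).subtype with hTdef
  have hTQ : Nat.card T = Nat.card Q := Nat.card_congr
    ((Q : Subgroup (centralizer ({s} : Set Co1))).equivMapOfInjective _ (Subgroup.subtype_injective _)).symm.toEquiv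
  have hTp : IsPGroup 2 T := Q.isPGroup'.map _
  have hTs : ∀ x ∈ T, x * s = s * x := by
    rintro _ ⟨x, -, rfl⟩
    exact mem_centralizer_singleton_iff.1 x.2
  have htT : t ∈ T := ⟨⟨t, htC⟩, hQ (Subgroup.mem_zpowers _), rfl⟩
  have hTge : 2 ^ 13 ≤ Nat.card T := by
    rw [hTQ]
    exact Nat.le_of_dvd Nat.card_pos hQc
  obtain ⟨j, hjT, hjj, hj1, hjc⟩ := OddHalf.D4.Spor.exists_central_invol hTp (by
    rw [hTQ]
    exact (by norm_num : 4 ∣ 2 ^ 13).trans hQc)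
  -- a central involution of class 2A
  obtain ⟨u, huT, huA, huc⟩ : ∃ u ∈ T, IsA u ∧ ∀ x ∈ T, x * u = u * x := by
    rcases inv_cases hjj hj1 with h | h | h
    · exact ⟨j, hjT, h, hjc⟩
    · exact absurd hf (fr_ne_one h (hTs j hjT).symm)
    · obtain ⟨k, hk⟩ := isConj_iff.1 h
      let T' : Subgroup Co1 := T.map (MulAut.conj k⁻¹).toMonoidHom
      have hT' : IsPGroup 2 T' := hTp.map _
      have hc' : Nat.card T' = Nat.card T := Nat.card_congr
        (T.equivMapOfInjective _ (MulAut.conj k⁻¹).injective).symm.toEquiv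
      obtain ⟨u, huT, huA, huc⟩ := exists_central hT' (by
        rintro _ ⟨x, hx, rfl⟩
        show k⁻¹ * x * k⁻¹⁻¹ * TwoB.w = TwoB.w * (k⁻¹ * x * k⁻¹⁻¹)
        calc k⁻¹ * x * k⁻¹⁻¹ * TwoB.w = k⁻¹ * (x * (k * TwoB.w * k⁻¹)) * k := by group
          _ = k⁻¹ * (k * TwoB.w * k⁻¹ * x) * k := by rw [hk, hjc x hx]
          _ = _ := by group) (by rw [hc']; exact hTge)
      obtain ⟨u', hu', rfl⟩ := huT
      refine ⟨u', hu', ?_, fun x hx => ?_⟩
      · exact IsA.of_conj (k := k⁻¹) huA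
      · have h5 := huc _ ⟨x, hx, rfl⟩
        exact (MulAut.conj k⁻¹).injective (by
          rw [map_mul, map_mul]
          exact h5)
  refine ⟨u, huA, ?_⟩
  rw [mul_assoc, ← hTs u huT, ← mul_assoc, huc t htT, mul_assoc]

end Cfsg.Agent.H630.Ore.Co1
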