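import Cfsg.Agent.H630.Ore.Co1.InA
import Cfsg.Agent.H518.Ore.CoOneN
import Cfsg.Agent.H6.ORE.CoOne
import Cfsg.Agent.H777.Ore.Base
import Cfsg.Agent.CoFive.Ranks

/-!
# Row `Co1` of S2443: the case division (helper630)
-/

set_option autoImplicit false

open Subgroup

namespace Cfsg.Agent.H630.Ore.Co1

open Cfsg Cfsg.Agent.SporadicA Cfsg.Agent.SporadicA.Co0Mono Cfsg.Agent.SporadicA.GolayBase
open Cfsg.Agent.KFacts.Co1D4 Cfsg.Agent.CoOneType.SignFacts
open Cfsg.Agent.CoOneType.ClosingFacts (mk isConj_octad)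
open Cfsg.Agent.LThreeMB (fr fr_conj)
open Cfsg.Agent.H777.Ore
open Cfsg.Spor (Co1)

/-- the bound -/
def Bd (K : ℕ) (g : Co1) : Prop := Nat.card (centralizer ({g} : Set Co1)) ≤ K

theorem bd_of_le {K : ℕ} {g y : Co1} (hy : y ∈ zpowers g) (h : Bd K y) : Bd K g := by
  have := LThree.fin_co1
  refine le_trans (Nat.card_mono (Set.toFinite _) ?_) h
  intro x hx
  rw [SetLike.mem_coe, mem_centralizer_singleton_iff] at hx ⊢
  obtain ⟨k, rfl⟩ := hy
  have : Commute x g := hx
  exact (this.zpow_right k).eq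

/-! ### 2A and 2C -/

theorem isC_of_inA (hO : H6.ORE.CoOne.OreO8) {g : Co1} (h : InA g) (h1 : g ≠ 1) : IsC g := by
  obtain ⟨u, ⟨c, hc, hu⟩, hg⟩ := h
  have h2 : IsConj H812.CoFiveData.z u := (isConj_octad H812.CoFiveData.wt_c0 hc).trans hu
  obtain ⟨a, b, hab, -⟩ := H6.ORE.CoOne.of_comm hO h2 hg h1
  exact ⟨a, b, hab⟩

theorem isC_of_isD {g u : Co1} (h : IsD u) (hg : g * u = u * g) : IsC g := by
  obtain ⟨d, hd, hu⟩ := h
  exact H518.Ore.CoOneN.isC_dodecad hd hu.symm hg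

/-! ### elements of odd order in `C(w)` -/

theorem odd_mem_L {s : Co1} (hs : Odd (orderOf s)) (hw : s * TwoB.w = TwoB.w * s) : s ∈ GTwo.L := by
  have := LThree.fin_co1
  have S := Main.setup
  obtain ⟨k, hk⟩ := hs
  set a : Co1 := s ^ (k + 1) with ha
  have haw : a * TwoB.w = TwoB.w * a := ((show Commute s TwoB.w from hw).pow_left (k + 1)).eq
  have haa : a * a = s := by
    rw [ha, ← pow_add, show k + 1 + (k + 1) = orderOf s + 1 by omega, pow_succ, pow_orderOf_eq_one, one_mul]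
  have hsZ : s ∈ S.ZL := by
    rw [← haa, S.mul_mem_iff haw haw]
  have haZ : a ∈ S.ZL := S.ZL.pow_mem hsZ _
  obtain ⟨b, hb, l, hl, hbl⟩ := S.mem_ZL.1 haZ
  have hbb : b * b = 1 := by
    rcases hb with rfl | rfl | rfl | rfl
    · exact mul_one 1
    · exact S.ww
    · exact S.vv
    · calc TwoB.w * TwoB.v * (TwoB.w * TwoB.v) = TwoB.w * (TwoB.v * TwoB.w) * TwoB.v := by group
        _ = TwoB.w * (TwoB.w * TwoB.v) * TwoB.v := by rw [← S.comm]
        _ = (TwoB.w * TwoB.w) * (TwoB.v * TwoB.v) := by group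
        _ = 1 := by rw [S.ww, S.vv, one_mul]
  have h1 : s = l * l := by
    rw [← haa, hbl]
    calc b * l * (b * l) = b * (l * b) * l := by group
      _ = b * (b * l) * l := by rw [S.cent_LZ l hl b hb]
      _ = (b * b) * (l * l) := by group
      _ = l * l := by rw [hbb, one_mul]
  rw [h1]
  exact GTwo.L.mul_mem hl hl

/-! ### the case division -/

/-- the inputs for a property `P` of elements (`K` the bound of the sieve) -/
structure InputsP (P : Co1 → Prop) : Prop where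
  inA : ∀ g : Co1, InA g → g ≠ 1 → P g
  isD : ∀ g u : Co1, IsD u → g * u = u * g → P g
  two : ∀ g : Co1, (∃ i : ℕ, g ^ 2 ^ i = 1) → P g
  prime : ∀ s : Co1, (orderOf s = 3 ∨ orderOf s = 5) → P s
  fiveA : ∀ y g : Co1, orderOf y = 5 → fr y = 1 → y ∈ zpowers g → g ∉ zpowers y → P g
  fiveB : ∀ y g : Co1, orderOf y = 5 → fr y = 2 ^ 8 → y ∈ zpowers g → g ∉ zpowers y → P g
  fiveC : ∀ y g : Co1, orderOf y = 5 → fr y = 2 ^ 4 → y ∈ zpowers g → g ∉ zpowers y → P g
  big : ∀ y g : Co1, (orderOf y = 7 ∨ orderOf y = 11 ∨ orderOf y = 13 ∨ orderOf y = 23) → y ∈ zpowers g → P g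
  nine : ∀ g : Co1, 9 ∣ orderOf g → P g
  eight : ∀ s t : Co1, orderOf s = 3 → fr s = 2 ^ 8 → t * s = s * t → t ≠ 1 → (∃ n : ℕ, t ^ 2 ^ n = 1) → P (t * s)

variable {P : Co1 → Prop} (I : InputsP P)

theorem card_co1 : Nat.card Co1 = 4157776806543360000 := Cfsg.Agent.S0399.result.2

theorem prime_cases {p : ℕ} (hp : p.Prime) (h : p ∣ Nat.card Co1) : p = 2 ∨ p = 3 ∨ p = 5 ∨ p = 7 ∨ p = 11 ∨
    p = 13 ∨ p = 23 := by
  rw [card_co1, show (4157776806543360000 : ℕ) = 2 ^ 21 * 3 ^ 9 * 5 ^ 4 * 7 ^ 2 * 11 * 13 * 23 by norm_num] at h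
  have key : ∀ {q n : ℕ}, q.Prime → p ∣ q ^ n → p = q := fun hq hd => (Nat.prime_dvd_prime_iff_eq hp hq).1 (hp.dvd_of_dvd_pow hd)
  rcases hp.dvd_mul.1 h with h | h
  · rcases hp.dvd_mul.1 h with h | h
    · rcases hp.dvd_mul.1 h with h | h
      · rcases hp.dvd_mul.1 h with h | h
        · rcases hp.dvd_mul.1 h with h | h
          · rcases hp.dvd_mul.1 h with h | h
            · exact Or.inl (key (by norm_num) h)
            · exact Or.inr (Or.inl (key (by norm_num) h))
          · exact Or.inr (Or.inr (Or.inl (key (by norm_num) h)))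
        · exact Or.inr (Or.inr (Or.inr (Or.inl (key (by norm_num) h))))
      · exact Or.inr (Or.inr (Or.inr (Or.inr (Or.inl ((Nat.prime_dvd_prime_iff_eq hp (by norm_num)).1 h)))))
    · exact Or.inr (Or.inr (Or.inr (Or.inr (Or.inr (Or.inl ((Nat.prime_dvd_prime_iff_eq hp (by norm_num)).1 h))))))
  · exact Or.inr (Or.inr (Or.inr (Or.inr (Or.inr (Or.inr ((Nat.prime_dvd_prime_iff_eq hp (by norm_num)).1 h))))))

theorem exists_pow {g : Co1} {p : ℕ} (hp : p.Prime) (h : p ∣ orderOf g) : ∃ y ∈ zpowers g, orderOf y = p := by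
  have := LThree.fin_co1
  obtain ⟨k, hk⟩ := h
  have hk0 : k ≠ 0 := by
    rintro rfl
    have := orderOf_pos g
    omega
  refine ⟨g ^ k, (zpowers g).pow_mem (mem_zpowers g) k, ?_⟩
  rw [orderOf_pow_of_dvd hk0 (by rw [hk]; exact Dvd.intro_left p rfl), hk]
  exact Nat.mul_div_cancel _ (Nat.pos_of_ne_zero hk0)

theorem order_of_mem {g y : Co1} {p : ℕ} (hp : p.Prime) (h : g ∈ zpowers y) (hy : orderOf y = p) (hg : p ∣ orderOf g) :
    orderOf g = p := by
  have h1 := orderOf_dvd_of_mem_zpowers h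
  rw [hy] at h1
  exact Nat.dvd_antisymm h1 hg

include I

/-- a prime at least five -/
theorem InputsP.of_big {g : Co1} {p : ℕ} (hp : p.Prime) (h5 : 5 ≤ p) (h : p ∣ orderOf g) : P g := by
  have := LThree.fin_co1
  obtain ⟨y, hyg, hy⟩ := exists_pow hp h
  rcases prime_cases hp (h.trans (orderOf_dvd_natCard g)) with rfl | rfl | rfl | rfl | rfl | rfl | rfl
  · omega
  · omega
  · by_cases hgy : g ∈ zpowers y
    · exact I.prime g (Or.inr (order_of_mem hp hgy hy h))
    · rcases CoFive.Ranks.ranks y hy with hf | hf | hf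
      · exact I.fiveA y g hy hf hyg hgy
      · exact I.fiveC y g hy hf hyg hgy
      · exact I.fiveB y g hy hf hyg hgy
  · exact I.big y g (Or.inl hy) hyg
  · exact I.big y g (Or.inr (Or.inl hy)) hyg
  · exact I.big y g (Or.inr (Or.inr (Or.inl hy))) hyg
  · exact I.big y g (Or.inr (Or.inr (Or.inr hy))) hyg

/-- `g = t s`, `|s| = 3`, `t ≠ 1` a 2-element -/
theorem InputsP.ts {t s : Co1} (hts : t * s = s * t) (hs : orderOf s = 3) (ht1 : t ≠ 1) {n : ℕ} (ht : t ^ 2 ^ n = 1) :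
    P (t * s) := by
  have := LThree.fin_co1
  have ho : orderOf t ∣ 2 ^ n := orderOf_dvd_of_pow_eq_one ht
  obtain ⟨m, -, hm⟩ := (Nat.dvd_prime_pow Nat.prime_two).1 ho
  have h2 : 2 ∣ orderOf t := by
    rw [hm]
    refine dvd_pow_self 2 ?_
    rintro rfl
    rw [pow_zero, orderOf_eq_one_iff] at hm
    exact ht1 hm
  obtain ⟨u, hut, hu⟩ := exists_pow Nat.prime_two h2
  have hus : u * s = s * u := by
    obtain ⟨k, rfl⟩ := hut
    exact ((show Commute t s from hts).zpow_left k).eq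
  have hutc : u * t = t * u := by
    obtain ⟨k, rfl⟩ := hut
    exact ((Commute.refl t).zpow_left k).eq
  have hug : t * s * u = u * (t * s) := by
    rw [mul_assoc, ← hus, ← mul_assoc, ← hutc, mul_assoc]
  have huu : u * u = 1 := by rw [← pow_two, ← hu, pow_orderOf_eq_one]
  have hu1 : u ≠ 1 := by
    rintro rfl
    rw [orderOf_one] at hu
    omega
  have hg1 : t * s ≠ 1 := by
    intro h
    have h3 : t = s⁻¹ := eq_inv_of_mul_eq_one_left h
    rw [h3, orderOf_inv, hs] at ho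
    exact absurd ((Nat.Prime.dvd_of_dvd_pow Nat.prime_three ho)) (by norm_num)
  rcases inv_cases huu hu1 with h | h | h
  · exact I.inA _ ⟨u, h, hug⟩ hg1
  · exact I.isD _ u h hug
  · have hfr : fr s = 1 ∨ fr s = 2 ^ 8 := by
      obtain ⟨k, rfl⟩ := isConj_iff.1 h
      have h3 : (k⁻¹ * s * k⁻¹⁻¹) * TwoB.w = TwoB.w * (k⁻¹ * s * k⁻¹⁻¹) := by
        calc k⁻¹ * s * k⁻¹⁻¹ * TwoB.w = k⁻¹ * (s * (k * TwoB.w * k⁻¹)) * k := by group
          _ = k⁻¹ * (k * TwoB.w * k⁻¹ * s) * k := by rw [hus]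
          _ = _ := by group
      have h4 : orderOf (k⁻¹ * s * k⁻¹⁻¹) = 3 := by
        rw [← hs]
        exact orderOf_injective (MulAut.conj k⁻¹).toMonoidHom (MulAut.conj k⁻¹).injective s
      have h5 := odd_mem_L (by rw [h4]; decide) h3
      have h6 := LThree.three_elt (n := 1) h5 (by rw [pow_one, ← h4, pow_orderOf_eq_one]) (by
        intro h7
        rw [h7, orderOf_one] at h4
        omega)
      rw [fr_conj] at h6
      exact h6.2
    rcases hfr with hf | hf
    · exact I.inA _ (inA_zero hs hf hts ht) hg1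
    · exact I.eight s t hs hf hts ht1 ⟨n, ht⟩

/-- **the case division** -/
theorem InputsP.all (g : Co1) : P g := by
  have := LThree.fin_co1
  by_cases hbig : ∃ p, p.Prime ∧ 5 ≤ p ∧ p ∣ orderOf g
  · obtain ⟨p, hp, h5, h⟩ := hbig
    exact I.of_big hp h5 h
  push Not at hbig
  by_cases h9 : 9 ∣ orderOf g
  · exact I.nine g h9
  have hn0 : orderOf g ≠ 0 := (orderOf_pos g).ne'
  -- the order is `2 ^ a` or `2 ^ a * 3`
  obtain ⟨a, m, hm2, hm⟩ := Nat.exists_eq_two_pow_mul_odd hn0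
  have hm3 : m = 1 ∨ m = 3 := by
    have hm0 : m ≠ 0 := by
      rintro rfl
      exact hn0 (by rw [hm, mul_zero])
    have h1 : ∀ p, p.Prime → p ∣ m → p = 3 := by
      intro p hp hd
      have h2 : p < 5 := by
        by_contra h
        exact hbig p hp (not_lt.1 h) (by rw [hm]; exact hd.mul_left _)
      have h3 := hp.two_le
      interval_cases p
      · exact absurd (even_iff_two_dvd.2 hd) (Nat.not_even_iff_odd.2 hm2)
      · rfl
      · exact absurd hp (by norm_num)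
    have h2 := Nat.eq_prime_pow_of_unique_prime_dvd (p := 3) hm0 fun {d} hd hdm => h1 d hd hdm
    generalize m.primeFactorsList.length = b at h2
    subst h2
    have hb : b < 2 := by
      by_contra h
      push Not at h
      apply h9
      rw [hm]
      exact ((pow_dvd_pow 3 h).mul_left _)
    interval_cases b
    · exact Or.inl (pow_zero 3)
    · exact Or.inr (pow_one 3)
  rcases hm3 with rfl | rfl
  · exact I.two g ⟨a, by rw [← mul_one (2 ^ a), ← hm, pow_orderOf_eq_one]⟩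
  · by_cases ha : a = 0
    · subst ha
      exact I.prime g (Or.inl (by rw [hm, pow_zero, one_mul]))
    · obtain ⟨u, v, huv⟩ : ∃ u v : ℤ, u * 2 ^ a + v * 3 = 1 := by
        have h1 : IsCoprime ((2 : ℤ) ^ a) 3 := IsCoprime.pow_left (by
          rw [Int.isCoprime_iff_gcd_eq_one]; norm_num)
        obtain ⟨u, v, h⟩ := h1
        exact ⟨u, v, h⟩
      set s : Co1 := g ^ (u * 2 ^ a) with hs
      set t : Co1 := g ^ (v * 3) with ht
      have hg : g = t * s := by
        rw [hs, ht, ← zpow_add, add_comm, huv, zpow_one]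
      have hts : t * s = s * t := by
        rw [hs, ht, ← zpow_add, ← zpow_add, add_comm]
      have hgz : g ^ ((2 : ℤ) ^ a * 3) = 1 := by
        have h1 := pow_orderOf_eq_one g
        rw [hm] at h1
        rw [← zpow_natCast] at h1
        push_cast at h1
        exact h1
      have hs3 : s ^ 3 = 1 := by
        rw [hs, ← zpow_natCast, ← zpow_mul]
        push_cast
        rw [show u * 2 ^ a * 3 = (2 ^ a * 3) * u by ring, zpow_mul, hgz, one_zpow]
      have ht2 : t ^ 2 ^ a = 1 := by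
        rw [ht, ← zpow_natCast, ← zpow_mul]
        push_cast
        rw [show v * 3 * 2 ^ a = (2 ^ a * 3) * v by ring, zpow_mul, hgz, one_zpow]
      have hs1 : s ≠ 1 := by
        intro h
        rw [h, mul_one] at hg
        have h1 : orderOf g ∣ 2 ^ a := orderOf_dvd_of_pow_eq_one (by rw [hg]; exact ht2)
        rw [hm] at h1
        have h2 : (3 : ℕ) ∣ 2 ^ a := (Dvd.intro_left _ rfl).trans h1
        exact absurd (Nat.prime_three.dvd_of_dvd_pow h2) (by norm_num)
      have ht1 : t ≠ 1 := by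
        intro h
        rw [h, one_mul] at hg
        have h1 : orderOf g ∣ 3 := orderOf_dvd_of_pow_eq_one (by rw [hg]; exact hs3)
        rw [hm] at h1
        have h2 : 2 ∣ 3 := ((dvd_pow_self 2 ha).trans (Dvd.intro _ rfl)).trans h1
        norm_num at h2
      have h3 : Fact (Nat.Prime 3) := ⟨Nat.prime_three⟩
      rw [hg]
      exact I.ts hts (orderOf_eq_prime hs3 hs1) ht1 ht2

omit I

/-! ### commutators -/

/-- the inputs for commutators -/
structure Inputs : Prop where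
  ore8 : H6.ORE.CoOne.OreO8
  sieve : ∀ g : Co1, Bd 38726 g → IsC g
  prime : ∀ s : Co1, (orderOf s = 3 ∨ orderOf s = 5) → IsC s
  fiveA : ∀ y g : Co1, orderOf y = 5 → fr y = 1 → y ∈ zpowers g → g ∉ zpowers y → IsC g
  fiveC : ∀ y g : Co1, orderOf y = 5 → fr y = 2 ^ 4 → y ∈ zpowers g → g ∉ zpowers y → IsC g
  big : ∀ y : Co1, ((orderOf y = 5 ∧ fr y = 2 ^ 8) ∨ orderOf y = 7 ∨ orderOf y = 11 ∨ orderOf y = 13 ∨
    orderOf y = 23) → Bd 38726 y
  nine : ∀ g : Co1, 9 ∣ orderOf g → IsC g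
  eight : ∀ s t : Co1, orderOf s = 3 → fr s = 2 ^ 8 → t * s = s * t → t ≠ 1 → (∃ n : ℕ, t ^ 2 ^ n = 1) →
    Bd 38726 (t * s)

theorem Inputs.toP (I : Inputs) : InputsP IsC where
  inA _ h h1 := isC_of_inA I.ore8 h h1
  isD _ _ h hg := isC_of_isD h hg
  two _ h := H518.Ore.CoOneN.isC_two h
  prime := I.prime
  fiveA := I.fiveA
  fiveB y g hy hf hyg _ := I.sieve g (bd_of_le hyg (I.big y (Or.inl ⟨hy, hf⟩)))
  fiveC := I.fiveC
  big y g h hyg := I.sieve g (bd_of_le hyg (I.big y (Or.inr h)))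
  nine := I.nine
  eight s t hs hf hts ht1 ht := I.sieve _ (I.eight s t hs hf hts ht1 ht)

/-- **the row** -/
theorem allC (I : Inputs) : AllC Co1 := I.toP.all

end Cfsg.Agent.H630.Ore.Co1
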