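import Cfsg.Agent.LThreeCo1.Ranks
import Cfsg.Agent.PreUniqCo.TrWord
import Cfsg.Agent.CoOneType.ClosingFacts

/-!
# Row `Co1` of S2443: the elements of order three of `Co1` and their traces (helper630)

`fr_cases` : for `g : Co0` whose image in `Co1` has order three, `tr8 g = ± 96, ± 24, 0, ± 48` and
`fr = 1, 2^6, 2^8, 2^12` accordingly.
-/

set_option autoImplicit false

namespace Cfsg.Agent.H630.Ore.Co1.Tr

open Cfsg Cfsg.Agent.SporadicA
open Cfsg.Agent.CoOneType.CoEval (Rep)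
open Cfsg.Agent.LThreeMB (fr fr_conj)
open Cfsg.Agent.LThreeCo1.Class (c0 c6 c8 c12)
open Cfsg.Agent.LThreeCo1.Ranks (rep0 rep6 rep8 rep12 classes fr_c0 fr_c6 fr_c8 fr_c12)
open Cfsg.Agent.CoOneType.ClosingFacts (mk mk_mul mk_inv exists_mk mk_eq_one mk_eq)
open Cfsg.Agent.Co2Type.Mono (tr8 tr8_conj)
open Cfsg.Agent.PreUniqCo.TrWord (trW tr8_word)
open Cfsg.Spor (Co1)

theorem tr8_of_rep {c : Co0} {Q : List (List ℤ)} (h : Rep c Q) : tr8 c = trW (fun _ => Q) [0] := by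
  have h1 := tr8_word (e := fun _ => c) (M := fun _ => Q) (fun _ => h) [0]
  simpa using h1

theorem tr8_c0 : tr8 c0 = -96 := by rw [tr8_of_rep rep0]; decide +kernel
theorem tr8_c6 : tr8 c6 = -24 := by rw [tr8_of_rep rep6]; decide +kernel
theorem tr8_c8 : tr8 c8 = 0 := by rw [tr8_of_rep rep8]; decide +kernel
theorem tr8_c12 : tr8 c12 = 48 := by rw [tr8_of_rep rep12]; decide +kernel

theorem tr8_neg (g : Co0) : tr8 (g * Co0Basic.negCo0) = - tr8 g := by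
  unfold Cfsg.Agent.Co2Type.Mono.tr8
  rw [← Finset.sum_neg_distrib]
  refine Finset.sum_congr rfl fun i _ => ?_
  rw [mul_smul]
  have h : (Co0Basic.negCo0 • Cfsg.Agent.SporadicStructure.Co0Base.e8 i : leechLattice) =
      -Cfsg.Agent.SporadicStructure.Co0Base.e8 i := rfl
  rw [h, Co0Mono.smul_neg]
  rfl

theorem tr8_of_mk {g c : Co0} (h : mk g = mk c) : tr8 g = tr8 c ∨ tr8 g = - tr8 c := by
  rcases (mk_eq g c).1 h with h | h
  · exact Or.inl (by rw [h])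
  · right
    rw [h, ← Cfsg.Agent.CoOneType.ClosingFacts.neg_eq, tr8_neg]

theorem tr8_of_conj {g c : Co0} {k : Co1} (h : k * mk g * k⁻¹ = mk c) : tr8 g = tr8 c ∨ tr8 g = - tr8 c := by
  obtain ⟨t, rfl⟩ := exists_mk k
  rw [← mk_inv, ← mk_mul, ← mk_mul] at h
  have h1 := tr8_of_mk h
  rwa [tr8_conj] at h1

/-- **the four classes by the trace** -/
theorem fr_cases {g : Co0} (hg : orderOf (mk g) = 3) :
    (fr (mk g) = 1 ∧ (tr8 g = 96 ∨ tr8 g = -96)) ∨ (fr (mk g) = 2 ^ 6 ∧ (tr8 g = 24 ∨ tr8 g = -24)) ∨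
      (fr (mk g) = 2 ^ 8 ∧ tr8 g = 0) ∨ (fr (mk g) = 2 ^ 12 ∧ (tr8 g = 48 ∨ tr8 g = -48)) := by
  obtain ⟨c, hc, k, hk⟩ := classes hg
  have h1 := fr_conj k (mk g)
  rw [hk] at h1
  have h2 := tr8_of_conj (c := c) hk
  rcases hc with rfl | rfl | rfl | rfl
  · rw [fr_c0] at h1
    rw [tr8_c0] at h2
    exact Or.inl ⟨h1.symm, by tauto⟩
  · rw [fr_c6] at h1
    rw [tr8_c6] at h2
    exact Or.inr (Or.inl ⟨h1.symm, by tauto⟩)
  · rw [fr_c8] at h1
    rw [tr8_c8] at h2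
    exact Or.inr (Or.inr (Or.inl ⟨h1.symm, by simpa using h2⟩))
  · rw [fr_c12] at h1
    rw [tr8_c12] at h2
    exact Or.inr (Or.inr (Or.inr ⟨h1.symm, by tauto⟩))

theorem fr_of_zero {g : Co0} (hg : orderOf (mk g) = 3) (h : tr8 g = 0) : fr (mk g) = 2 ^ 8 := by
  rcases fr_cases hg with h1 | h1 | h1 | h1
  · omega
  · omega
  · exact h1.1
  · omega

theorem fr_of_96 {g : Co0} (hg : orderOf (mk g) = 3) (h : tr8 g = -96) : fr (mk g) = 1 := by
  rcases fr_cases hg with h1 | h1 | h1 | h1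
  · exact h1.1
  · omega
  · omega
  · omega

end Cfsg.Agent.H630.Ore.Co1.Tr
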