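import Mathlib

/-!
# Row `Co1` of S2443: groups of order 27 and exponent three (helper630)

`x`, `y` of order three, `z = [x, y]` of order three commuting with `x` and `y`.
-/

set_option autoImplicit false

namespace Cfsg.Agent.H630.Ore.Co1.Heis

open Subgroup

variable {G : Type*} [Group G]

/-- the data -/
structure Dat (x y z : G) : Prop where
  x3 : x ^ 3 = 1
  y3 : y ^ 3 = 1
  z3 : z ^ 3 = 1
  xy : x * y = z * (y * x)
  zx : z * x = x * z
  zy : z * y = y * z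

variable {x y z : G} (h : Dat x y z)

include h

theorem Dat.zx' (k i : ℕ) : z ^ k * x ^ i = x ^ i * z ^ k := ((show Commute z x from h.zx).pow_pow k i).eq

theorem Dat.zy' (k j : ℕ) : z ^ k * y ^ j = y ^ j * z ^ k := ((show Commute z y from h.zy).pow_pow k j).eq

theorem Dat.yx : y * x = z ^ 2 * (x * y) := by
  rw [h.xy, ← mul_assoc, ← pow_succ, h.z3, one_mul]

/-- `y xⁱ = z²ⁱ xⁱ y` -/
theorem Dat.yxi (i : ℕ) : y * x ^ i = z ^ (2 * i) * (x ^ i * y) := by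
  induction i with
  | zero => simp
  | succ i ih =>
    calc y * x ^ (i + 1) = y * x ^ i * x := by rw [pow_succ, mul_assoc]
      _ = z ^ (2 * i) * (x ^ i * (y * x)) := by rw [ih]; group
      _ = z ^ (2 * i) * (x ^ i * (z ^ 2 * (x * y))) := by rw [h.yx]
      _ = z ^ (2 * i) * ((x ^ i * z ^ 2) * (x * y)) := by group
      _ = z ^ (2 * i) * ((z ^ 2 * x ^ i) * (x * y)) := by rw [h.zx']
      _ = z ^ (2 * (i + 1)) * (x ^ (i + 1) * y) := by
        rw [mul_add, pow_add, pow_succ x i]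
        group

/-- `yʲ xⁱ = z²ⁱʲ xⁱ yʲ` -/
theorem Dat.yjxi (i j : ℕ) : y ^ j * x ^ i = z ^ (2 * i * j) * (x ^ i * y ^ j) := by
  induction j with
  | zero => simp
  | succ j ih =>
    calc y ^ (j + 1) * x ^ i = y * (y ^ j * x ^ i) := by rw [pow_succ', mul_assoc]
      _ = y * (z ^ (2 * i * j) * (x ^ i * y ^ j)) := by rw [ih]
      _ = (y ^ 1 * z ^ (2 * i * j)) * (x ^ i * y ^ j) := by rw [pow_one]; simp only [mul_assoc]
      _ = (z ^ (2 * i * j) * y ^ 1) * (x ^ i * y ^ j) := by rw [h.zy']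
      _ = z ^ (2 * i * j) * ((y * x ^ i) * y ^ j) := by rw [pow_one]; group
      _ = z ^ (2 * i * j) * ((z ^ (2 * i) * (x ^ i * y)) * y ^ j) := by rw [h.yxi]
      _ = z ^ (2 * i * (j + 1)) * (x ^ i * y ^ (j + 1)) := by
        rw [mul_add, pow_add, mul_one, pow_succ' y j]
        group

theorem Dat.mul (i j k i' j' k' : ℕ) : (x ^ i * y ^ j * z ^ k) * (x ^ i' * y ^ j' * z ^ k') =
    x ^ (i + i') * y ^ (j + j') * z ^ (k + k' + 2 * i' * j) := by
  have e1 : z ^ (2 * i' * j) * (x ^ (i + i') * y ^ (j + j')) = (x ^ (i + i') * y ^ (j + j')) * z ^ (2 * i' * j) := by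
    rw [← mul_assoc, h.zx', mul_assoc, h.zy', ← mul_assoc]
  calc (x ^ i * y ^ j * z ^ k) * (x ^ i' * y ^ j' * z ^ k')
      = x ^ i * y ^ j * (z ^ k * x ^ i') * y ^ j' * z ^ k' := by simp only [mul_assoc]
    _ = x ^ i * (y ^ j * x ^ i') * (z ^ k * y ^ j') * z ^ k' := by rw [h.zx']; simp only [mul_assoc]
    _ = x ^ i * (z ^ (2 * i' * j) * (x ^ i' * y ^ j)) * (y ^ j' * z ^ k) * z ^ k' := by rw [h.yjxi, h.zy']
    _ = (x ^ i * z ^ (2 * i' * j)) * (x ^ i' * y ^ j) * (y ^ j' * z ^ k) * z ^ k' := by simp only [mul_assoc]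
    _ = (z ^ (2 * i' * j) * x ^ i) * (x ^ i' * y ^ j) * (y ^ j' * z ^ k) * z ^ k' := by rw [h.zx']
    _ = (z ^ (2 * i' * j) * (x ^ (i + i') * y ^ (j + j'))) * (z ^ k * z ^ k') := by
        rw [pow_add, pow_add]; simp only [mul_assoc]
    _ = x ^ (i + i') * y ^ (j + j') * z ^ (k + k' + 2 * i' * j) := by
        rw [e1, show k + k' + 2 * i' * j = 2 * i' * j + (k + k') by ring, pow_add z (2 * i' * j), pow_add z k]
        simp only [mul_assoc]

/-- the subgroup -/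
def Dat.P : Subgroup G where
  carrier := {g | ∃ i j k : ℕ, g = x ^ i * y ^ j * z ^ k}
  one_mem' := ⟨0, 0, 0, by simp⟩
  mul_mem' := by
    rintro _ _ ⟨i, j, k, rfl⟩ ⟨i', j', k', rfl⟩
    exact ⟨_, _, _, h.mul i j k i' j' k'⟩
  inv_mem' := by
    rintro _ ⟨i, j, k, rfl⟩
    refine ⟨2 * i, 2 * j, 2 * k + 2 * i * j, ?_⟩
    rw [inv_eq_iff_mul_eq_one, h.mul]
    have e1 : x ^ (i + 2 * i) = 1 := by rw [show i + 2 * i = 3 * i by ring, pow_mul, h.x3, one_pow]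
    have e2 : y ^ (j + 2 * j) = 1 := by rw [show j + 2 * j = 3 * j by ring, pow_mul, h.y3, one_pow]
    have e3 : z ^ (k + (2 * k + 2 * i * j) + 2 * (2 * i) * j) = 1 := by
      rw [show k + (2 * k + 2 * i * j) + 2 * (2 * i) * j = 3 * (k + 2 * i * j) by ring, pow_mul, h.z3, one_pow]
    rw [e1, e2, e3, one_mul, one_mul]

theorem Dat.mem_P {g : G} : g ∈ h.P ↔ ∃ i j k : ℕ, g = x ^ i * y ^ j * z ^ k := Iff.rfl

theorem Dat.x_mem : x ∈ h.P := ⟨1, 0, 0, by simp⟩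
theorem Dat.y_mem : y ∈ h.P := ⟨0, 1, 0, by simp⟩
theorem Dat.z_mem : z ∈ h.P := ⟨0, 0, 1, by simp⟩

/-- the exponent is three -/
theorem Dat.cube {g : G} (hg : g ∈ h.P) : g ^ 3 = 1 := by
  obtain ⟨i, j, k, rfl⟩ := hg
  rw [pow_succ, pow_two, h.mul, h.mul]
  have e1 : x ^ (i + i + i) = 1 := by rw [show i + i + i = 3 * i by ring, pow_mul, h.x3, one_pow]
  have e2 : y ^ (j + j + j) = 1 := by rw [show j + j + j = 3 * j by ring, pow_mul, h.y3, one_pow]
  have e3 : z ^ (k + k + 2 * i * j + k + 2 * i * (j + j)) = 1 := by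
    rw [show k + k + 2 * i * j + k + 2 * i * (j + j) = 3 * (k + 2 * i * j) by ring, pow_mul, h.z3, one_pow]
  rw [e1, e2, e3, one_mul, one_mul]

theorem Dat.isPGroup : IsPGroup 3 h.P := fun g => ⟨1, by
  rw [pow_one]
  exact Subtype.ext (h.cube g.2)⟩

/-- not commutative: at least 27 elements -/
theorem Dat.le_card [Finite G] (hz : z ≠ 1) : 27 ≤ Nat.card h.P := by
  have : Fact (Nat.Prime 3) := ⟨Nat.prime_three⟩
  obtain ⟨n, hn⟩ := IsPGroup.iff_card.1 h.isPGroup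
  rw [hn]
  by_contra hlt
  have hn2 : n ≤ 2 := by
    by_contra h3
    push Not at h3
    exact hlt (by
      calc 27 = 3 ^ 3 := by norm_num
        _ ≤ 3 ^ n := Nat.pow_le_pow_right (by norm_num) h3)
  apply hz
  have hcomm : ∀ a b : h.P, a * b = b * a := by
    interval_cases n
    · rw [pow_zero] at hn
      have := (Nat.card_eq_one_iff_unique.1 hn).1
      intro a b
      exact Subsingleton.elim _ _
    · rw [pow_one] at hn
      have := isCyclic_of_prime_card hn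
      exact fun a b => (IsCyclic.isMulCommutative (α := h.P)).is_comm.comm a b
    · exact fun a b => (IsPGroup.isMulCommutative_of_card_eq_prime_sq hn).is_comm.comm a b
  have h1 := congrArg Subtype.val (hcomm ⟨x, h.x_mem⟩ ⟨y, h.y_mem⟩)
  have h2 : x * y = y * x := h1
  rw [h.xy] at h2
  exact mul_eq_right.1 h2

/-- a conjugation and inversion invariant property of all nontrivial elements -/
theorem Dat.all (F : G → Prop) (hc : ∀ a b, F b → F (a * b * a⁻¹)) (hi : ∀ b, F b → F b⁻¹) (Fx : F x) (Fy : F y)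
    (Fxy : F (x * y)) (Fxyy : F (x * y * y)) (Fz : F z) {g : G} (hg : g ∈ h.P) (hg1 : g ≠ 1) : F g := by
  have hx' : x⁻¹ = x ^ 2 := inv_eq_of_mul_eq_one_left (by rw [← pow_succ]; exact h.x3)
  have hy' : y⁻¹ = y ^ 2 := inv_eq_of_mul_eq_one_left (by rw [← pow_succ]; exact h.y3)
  have hz' : z⁻¹ = z ^ 2 := inv_eq_of_mul_eq_one_left (by rw [← pow_succ]; exact h.z3)
  have base : ∀ i < 3, ∀ j < 3, ¬ (i = 0 ∧ j = 0) → F (x ^ i * y ^ j) := by
    have f02 : F (y ^ 2) := hy' ▸ hi _ Fy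
    have f20 : F (x ^ 2) := hx' ▸ hi _ Fx
    have f22 : F (x ^ 2 * y ^ 2) := by
      have h1 := hi _ (hc y⁻¹ _ (hc y _ (hc x⁻¹ _ Fxy)))
      have e : (y⁻¹ * (y * (x⁻¹ * (x * y) * x⁻¹⁻¹) * y⁻¹) * y⁻¹⁻¹)⁻¹ = x⁻¹ * y⁻¹ := by group
      rwa [e, hx', hy'] at h1
    have f21 : F (x ^ 2 * y ^ 1) := by
      have h1 := hi _ (hc y _ Fxyy)
      have e : (y * (x * y * y) * y⁻¹)⁻¹ = (y * x * y)⁻¹ := by group
      rw [e] at h1
      have h2 := hc y _ h1
      have e2 : y * (y * x * y)⁻¹ * y⁻¹ = x⁻¹ * y⁻¹ * y⁻¹ := by group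
      rw [e2, hx', hy'] at h2
      have e3 : x ^ 2 * y ^ 2 * y ^ 2 = x ^ 2 * y ^ 1 * y ^ 3 := by group
      rwa [e3, h.y3, mul_one] at h2
    intro i hi' j hj hne
    interval_cases i <;> interval_cases j
    · exact absurd ⟨rfl, rfl⟩ hne
    · simpa using Fy
    · simpa using f02
    · simpa using Fx
    · simpa using Fxy
    · simpa [pow_two, mul_assoc] using Fxyy
    · simpa using f20
    · exact f21
    · exact f22
  have red : ∀ {w : G}, w ^ 3 = 1 → ∀ n : ℕ, w ^ n = w ^ (n % 3) := by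
    intro w hw n
    conv_lhs => rw [← Nat.mod_add_div n 3, pow_add, pow_mul, hw, one_pow, mul_one]
  obtain ⟨i, j, k, rfl⟩ := hg
  rw [red h.x3 i, red h.y3 j, red h.z3 k] at hg1 ⊢
  generalize hi3 : i % 3 = i' at hg1 ⊢
  generalize hj3 : j % 3 = j' at hg1 ⊢
  generalize hk3 : k % 3 = k' at hg1 ⊢
  have hi' : i' < 3 := by omega
  have hj' : j' < 3 := by omega
  have hk' : k' < 3 := by omega
  by_cases h00 : i' = 0 ∧ j' = 0
  · obtain ⟨rfl, rfl⟩ := h00
    simp only [pow_zero, one_mul] at hg1 ⊢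
    interval_cases k'
    · exact absurd (pow_zero z) hg1
    · simpa using Fz
    · exact hz' ▸ hi _ Fz
  -- conjugate `xⁱ yʲ` by powers of `x`, `y`
  have cx : ∀ a : ℕ, x ^ a * (x ^ i' * y ^ j') * (x ^ a)⁻¹ = x ^ i' * y ^ j' * z ^ (j' * a) := by
    intro a
    rw [mul_inv_eq_iff_eq_mul]
    have h1 := h.mul a 0 0 i' j' 0
    have h2 := h.mul i' j' (j' * a) a 0 0
    simp only [pow_zero, mul_one, Nat.zero_add, Nat.mul_zero, add_zero] at h1 h2
    rw [h1, h2, add_comm i' a, show j' * a + 2 * a * j' = 3 * (j' * a) by ring, pow_mul, h.z3, one_pow, mul_one]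
  have cy : ∀ a : ℕ, y ^ a * (x ^ i' * y ^ j') * (y ^ a)⁻¹ = x ^ i' * y ^ j' * z ^ (2 * i' * a) := by
    intro a
    rw [mul_inv_eq_iff_eq_mul]
    have h1 := h.mul 0 a 0 i' j' 0
    have h2 := h.mul i' j' (2 * i' * a) 0 a 0
    simp only [pow_zero, mul_one, one_mul, Nat.zero_add, Nat.mul_zero, Nat.zero_mul, add_zero] at h1 h2
    rw [h1, h2, add_comm j' a]
  have hB := base i' hi' j' hj' h00
  by_cases hi0 : i' = 0
  · have hj0 : j' ≠ 0 := fun e => h00 ⟨hi0, e⟩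
    obtain ⟨a, ha⟩ : ∃ a, (j' * a) % 3 = k' := by
      have : ∀ j < 3, j ≠ 0 → ∀ k < 3, ∃ a < 3, (j * a) % 3 = k := by decide
      obtain ⟨a, -, ha⟩ := this j' hj' hj0 k' hk'
      exact ⟨a, ha⟩
    have h1 := hc (x ^ a) _ hB
    rwa [cx, red h.z3 (j' * a), ha] at h1
  · obtain ⟨a, ha⟩ : ∃ a, (2 * i' * a) % 3 = k' := by
      have : ∀ j < 3, j ≠ 0 → ∀ k < 3, ∃ a < 3, (2 * j * a) % 3 = k := by decide
      obtain ⟨a, -, ha⟩ := this i' hi' hi0 k' hk'
      exact ⟨a, ha⟩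
    have h1 := hc (y ^ a) _ hB
    rwa [cy, red h.z3 (2 * i' * a), ha] at h1

end Cfsg.Agent.H630.Ore.Co1.Heis
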