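import Cfsg.Agent.H630.Ore.Co1.Heis
import Cfsg.Agent.H630.Ore.Co1.Tr
import Cfsg.Agent.KFacts.Co1D4.GTwo
import Cfsg.Agent.H215.MS.TrFast

/-!
# Row `Co1` of S2443: the 3-elements of `L ≅ G₂(4)` in `Co1` (helper630)

`three_elt` : a 3-element `s ≠ 1` of `L` has order three and `fr s = 1` or `fr s = 2 ^ 8`.
-/

set_option autoImplicit false
set_option Elab.async false

namespace Cfsg.Agent.H630.Ore.Co1.LThree

open Cfsg Cfsg.Agent.SporadicA Cfsg.Agent.KFacts.Co1D4 Cfsg.Agent.KFacts.Co1D4.Letters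
open Cfsg.Agent.CoOneType.ClosingFacts (mk mk_mul mk_inv exists_mk mk_eq_one mk_eq)
open Cfsg.Agent.LThreeMB (fr fr_conj)
open Cfsg.Agent.Co2Type.Mono (tr8)
open Cfsg.Agent.CoOneType.CoEval (sameB neB pr map_prod_pr)
open Cfsg.Agent.H630.Ore.Co1.Heis
open Cfsg.Spor (Co1)

def wa : List ℕ := [0, 1, 0, 2]
def wb : List ℕ := [1, 0, 3, 2, 1, 3, 2]
def wc : List ℕ := [0, 1, 0, 2, 1, 0, 3, 2, 1, 3, 2, 2, 0, 1, 0, 2, 3, 1, 2, 3, 0, 1]

theorem val_append (u v : List ℕ) : val (u ++ v) = val u * val v := by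
  unfold val
  rw [List.map_append, List.prod_append]

theorem k1 : sameB M (wa ++ (wa ++ wa)) [] = true := by decide +kernel
theorem k2 : sameB M (wb ++ (wb ++ wb)) [] = true := by decide +kernel
theorem k3 : sameB M (wc ++ (wc ++ wc)) [] = true := by decide +kernel
theorem k4 : sameB M (wa ++ wb) (wc ++ (wb ++ wa)) = true := by decide +kernel
theorem k5 : sameB M (wc ++ wa) (wa ++ wc) = true := by decide +kernel
theorem k6 : sameB M (wc ++ wb) (wb ++ wc) = true := by decide +kernel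

theorem dat : Dat (val wa) (val wb) (val wc) where
  x3 := by rw [pow_succ, pow_two, mul_assoc, ← val_append, ← val_append]; exact rel k1
  y3 := by rw [pow_succ, pow_two, mul_assoc, ← val_append, ← val_append]; exact rel k2
  z3 := by rw [pow_succ, pow_two, mul_assoc, ← val_append, ← val_append]; exact rel k3
  xy := by rw [← val_append, ← val_append, ← val_append]; exact rel k4
  zx := by rw [← val_append, ← val_append]; exact rel k5
  zy := by rw [← val_append, ← val_append]; exact rel k6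

theorem z_ne : val wc ≠ 1 := ne_one (by decide +kernel)
theorem x_ne : val wa ≠ 1 := ne_one (by decide +kernel)
theorem y_ne : val wb ≠ 1 := ne_one (by decide +kernel)
theorem xy_ne : val (wa ++ wb) ≠ 1 := ne_one (by decide +kernel)
theorem xyy_ne : val (wa ++ wb ++ wb) ≠ 1 := ne_one (by decide +kernel)

theorem val_mem {l : List ℕ} (h : ∀ i ∈ l, i < 6) : val l ∈ GTwo.L := by
  unfold val
  refine Subgroup.list_prod_mem _ ?_
  intro g hg
  obtain ⟨i, hi, rfl⟩ := List.mem_map.1 hg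
  exact Subgroup.subset_closure ⟨⟨i, h i hi⟩, rfl⟩

theorem x_mem : val wa ∈ GTwo.L := val_mem (by decide)
theorem y_mem : val wb ∈ GTwo.L := val_mem (by decide)
theorem z_mem : val wc ∈ GTwo.L := val_mem (by decide)

theorem P_le : dat.P ≤ GTwo.L := by
  rintro _ ⟨i, j, k, rfl⟩
  exact GTwo.L.mul_mem (GTwo.L.mul_mem (GTwo.L.pow_mem x_mem i) (GTwo.L.pow_mem y_mem j)) (GTwo.L.pow_mem z_mem k)

theorem val_eq_mk (l : List ℕ) : val l = mk (l.map e).prod := map_prod_pr e l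

/-! ### traces -/

open Cfsg.Agent.PreUniqCo.TrWord (tr8_word)

theorem pa : PreUniqCo.TrWord.trW M wa = 0 :=
  H215.TrFast.trW_fast hM (by decide +kernel)
theorem pb : PreUniqCo.TrWord.trW M wb = 0 :=
  H215.TrFast.trW_fast hM (by decide +kernel)
theorem pab : PreUniqCo.TrWord.trW M (wa ++ wb) = 0 :=
  H215.TrFast.trW_fast hM (by decide +kernel)
theorem pabb : PreUniqCo.TrWord.trW M (wa ++ wb ++ wb) = 0 :=
  H215.TrFast.trW_fast hM (by decide +kernel)
theorem pc : PreUniqCo.TrWord.trW M wc = -96 :=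
  H215.TrFast.trW_fast hM (by decide +kernel)

/-- the property -/
def F (g : Co1) : Prop := g ^ 3 = 1 ∧ (fr g = 1 ∨ fr g = 2 ^ 8)

theorem order_three {g : Co1} (h : g ^ 3 = 1) (h1 : g ≠ 1) : orderOf g = 3 := by
  have : Fact (Nat.Prime 3) := ⟨Nat.prime_three⟩
  exact orderOf_eq_prime h h1

theorem F_of_zero {l : List ℕ} (h : val l ∈ dat.P) (h1 : val l ≠ 1) (ht : PreUniqCo.TrWord.trW M l = 0) :
    F (val l) := by
  have h3 := dat.cube h
  refine ⟨h3, Or.inr ?_⟩
  have ho := order_three h3 h1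
  rw [val_eq_mk] at ho ⊢
  exact Tr.fr_of_zero ho (by rw [tr8_word hM, ht])

theorem F_x : F (val wa) := F_of_zero dat.x_mem x_ne pa
theorem F_y : F (val wb) := F_of_zero dat.y_mem y_ne pb
theorem F_xy : F (val wa * val wb) := by
  rw [← val_append]
  refine F_of_zero ?_ xy_ne pab
  rw [val_append]
  exact dat.P.mul_mem dat.x_mem dat.y_mem
theorem F_xyy : F (val wa * val wb * val wb) := by
  rw [← val_append, ← val_append]
  refine F_of_zero ?_ xyy_ne pabb
  rw [val_append, val_append]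
  exact dat.P.mul_mem (dat.P.mul_mem dat.x_mem dat.y_mem) dat.y_mem
theorem F_z : F (val wc) := by
  have h3 := dat.cube dat.z_mem
  refine ⟨h3, Or.inl ?_⟩
  have ho := order_three h3 z_ne
  rw [val_eq_mk] at ho ⊢
  exact Tr.fr_of_96 ho (by rw [tr8_word hM, pc])

theorem fr_inv (s : Co1) : fr s⁻¹ = fr s := by
  unfold Cfsg.Agent.LThreeMB.fr
  refine Nat.card_congr (Equiv.subtypeEquivRight fun v => ?_)
  rw [inv_smul_eq_iff]
  exact eq_comm

theorem F_conj (a b : Co1) (h : F b) : F (a * b * a⁻¹) := by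
  refine ⟨by rw [conj_pow, h.1]; group, ?_⟩
  rw [fr_conj]
  exact h.2

theorem F_inv (b : Co1) (h : F b) : F b⁻¹ := by
  refine ⟨by rw [inv_pow, h.1, inv_one], ?_⟩
  rw [fr_inv]
  exact h.2

theorem F_of_mem {g : Co1} (h : g ∈ dat.P) (h1 : g ≠ 1) : F g :=
  dat.all F F_conj F_inv F_x F_y F_xy F_xyy F_z h h1

/-! ### Sylow -/

theorem fin_co1 : Finite Co1 := Nat.finite_of_card_ne_zero (by rw [Cfsg.Agent.S0399.result.2]; norm_num)

theorem card_P : Nat.card dat.P = 27 := by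
  have := fin_co1
  have h3 : Fact (Nat.Prime 3) := ⟨Nat.prime_three⟩
  obtain ⟨n, hn⟩ := IsPGroup.iff_card.1 dat.isPGroup
  have h1 := dat.le_card z_ne
  have h2 : Nat.card dat.P ∣ 251596800 := by
    rw [← GTwo.card_L]
    exact Subgroup.card_dvd_of_le P_le
  rw [hn] at h1 h2 ⊢
  have h4 : n < 4 := by
    by_contra h5
    push Not at h5
    have h6 : 3 ^ 4 ∣ 251596800 := (pow_dvd_pow 3 h5).trans h2
    norm_num at h6
  interval_cases n
  · norm_num at h1
  · norm_num at h1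
  · norm_num at h1
  · norm_num

/-- **the 3-elements of `L`** -/
theorem three_elt {s : Co1} (hs : s ∈ GTwo.L) {n : ℕ} (hn : s ^ 3 ^ n = 1) (h1 : s ≠ 1) :
    s ^ 3 = 1 ∧ (fr s = 1 ∨ fr s = 2 ^ 8) := by
  have := fin_co1
  have h3 : Fact (Nat.Prime 3) := ⟨Nat.prime_three⟩
  have hfac : 3 ^ (Nat.card GTwo.L).factorization 3 = 27 := by
    rw [GTwo.card_L]
    have : (251596800 : ℕ) = 3 ^ 3 * 9318400 := by norm_num
    rw [this, Nat.factorization_mul (by norm_num) (by norm_num), Nat.Prime.factorization_pow (by norm_num)]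
    rw [Finsupp.add_apply, Finsupp.single_eq_same, Nat.factorization_eq_zero_of_not_dvd (by norm_num)]
    norm_num
  have hcP : Nat.card (dat.P.subgroupOf GTwo.L) = 27 := by
    rw [Nat.card_congr (Subgroup.subgroupOfEquivOfLe P_le).toEquiv, card_P]
  let S : Sylow 3 GTwo.L := Sylow.ofCard (dat.P.subgroupOf GTwo.L) (by rw [hcP, hfac])
  have hz : IsPGroup 3 (Subgroup.zpowers (⟨s, hs⟩ : GTwo.L)) := by
    refine IsPGroup.of_card (n := (orderOf (⟨s, hs⟩ : GTwo.L)).factorization 3) ?_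
    rw [Nat.card_zpowers]
    have h5 : orderOf (⟨s, hs⟩ : GTwo.L) ∣ 3 ^ n := orderOf_dvd_of_pow_eq_one (Subtype.ext hn)
    obtain ⟨m, -, hm⟩ := (Nat.dvd_prime_pow Nat.prime_three).1 h5
    rw [hm, Nat.Prime.factorization_pow Nat.prime_three, Finsupp.single_eq_same]
  obtain ⟨Q, hQ⟩ := hz.exists_le_sylow
  obtain ⟨g, hg⟩ := MulAction.exists_smul_eq GTwo.L Q S
  have h6 : g * ⟨s, hs⟩ * g⁻¹ ∈ (S : Subgroup GTwo.L) := by
    rw [← hg, Sylow.coe_subgroup_smul, Subgroup.mem_pointwise_smul_iff_inv_smul_mem]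
    have e : (MulAut.conj g)⁻¹ • (g * ⟨s, hs⟩ * g⁻¹) = (⟨s, hs⟩ : GTwo.L) := by
      rw [← map_inv, MulAut.smul_def, MulAut.conj_apply]
      group
    rw [e]
    exact hQ (Subgroup.mem_zpowers _)
  have h7 : (g : Co1) * s * (g : Co1)⁻¹ ∈ dat.P := h6
  have h8 : (g : Co1) * s * (g : Co1)⁻¹ ≠ 1 := fun h => h1 (by
    have := congrArg (fun x => (g : Co1)⁻¹ * x * g) h
    simpa [mul_assoc] using this)
  have h9 := F_conj (g : Co1)⁻¹ _ (F_of_mem h7 h8)
  have e : (g : Co1)⁻¹ * ((g : Co1) * s * (g : Co1)⁻¹) * (g : Co1)⁻¹⁻¹ = s := by group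
  rwa [e] at h9

end Cfsg.Agent.H630.Ore.Co1.LThree
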