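import Cfsg.Agent.H630.Ore.Co1.Frame
import Cfsg.Agent.H935.OreO8.Main
import Cfsg.Agent.H8.Ore.CoOneA
import Cfsg.Agent.H8.Ore.CoOneB
import Cfsg.Agent.H518.Ore.CoOneD
import Cfsg.Agent.H868.Ore.CoOne

/-!
# The Ore conjecture for `Co1` (S2443), up to the sieve (helper630)
-/

set_option autoImplicit false

open Subgroup

namespace Cfsg.Agent.H630.Ore.Co1

open Cfsg Cfsg.Agent.KFacts.Co1D4
open Cfsg.Agent.LThreeMB (fr)
open Cfsg.Agent.H777.Ore
open Cfsg.Spor (Co1)

/-- an involution commuting with `g` which is not of class 2B -/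
theorem isC_of_inv {g : Co1} (h1 : g ≠ 1) (h : ∃ t : Co1, orderOf t = 2 ∧ t * g = g * t ∧ ¬ IsConj TwoB.w t) : IsC g := by
  obtain ⟨t, ht, htg, hn⟩ := h
  have htt : t * t = 1 := by rw [← pow_two, ← ht, pow_orderOf_eq_one]
  have ht1 : t ≠ 1 := by
    rintro rfl
    rw [orderOf_one] at ht
    omega
  rcases inv_cases htt ht1 with h | h | h
  · exact isC_of_inA H935.OreO8.oreO8 ⟨t, h, htg.symm⟩ h1
  · exact isC_of_isD h htg.symm
  · exact absurd h hn

theorem inputs (hK : ∀ g : Co1, Nat.card (centralizer ({g} : Set Co1)) ≤ 38726 → IsC g) : Inputs where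
  ore8 := H935.OreO8.oreO8
  sieve := hK
  prime _ h := H8.Ore.CoOneA.isC_prime h
  fiveA _ g hy hf hyg hg := hK g (H8.Ore.CoOneB.bound_5A hy hf hyg hg)
  fiveC y g hy hf hyg _ := by
    have h1 : g ≠ 1 := by
      rintro rfl
      rw [zpowers_one_eq_bot, mem_bot] at hyg
      rw [hyg, orderOf_one] at hy
      omega
    rcases H868.Ore.Co1.fiveC hy hf hyg with h | h
    · exact isC_of_inv h1 h
    · exact hK g (le_trans h (by norm_num))
  big _ h := H8.Ore.CoOneB.bound_prime h
  nine g h9 := by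
    have h1 : g ≠ 1 := by
      rintro rfl
      rw [orderOf_one] at h9
      omega
    rcases H868.Ore.Co1.nine h9 with h | h
    · exact isC_of_inv h1 h
    · exact hK g (le_trans h (by norm_num))
  eight s t hs hf hts ht1 ht := by
    obtain ⟨k, hk⟩ := ht
    exact le_trans (H518.Ore.CoOneD.card_le hs hf hk ht1 hts) (by norm_num)

/-- **the row `Co1`** (`hK` : the sieve) -/
theorem ore_co1_of (hK : ∀ g : Co1, Nat.card (centralizer ({g} : Set Co1)) ≤ 38726 → IsC g) {S : Type*} [Group S]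
    (h : Spor.IsoCo1 S) : AllC S := by
  obtain ⟨e⟩ := h
  exact AllC.congr e.symm (allC (inputs hK))

end Cfsg.Agent.H630.Ore.Co1
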